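import Mathlib.Algebra.Polynomial.Taylor
import Mathlib.Algebra.Polynomial.Eval.Degree
import Mathlib.Algebra.CharP.Lemmas
import Mathlib.Algebra.CharP.Algebra
import Mathlib.FieldTheory.IsAlgClosed.Basic
import Mathlib.RingTheory.Polynomial.Basic
import Mathlib.Algebra.Polynomial.Expand

/-!
# Polynomial cocycles with values in the kernel of `X ^ p - e X`

`K` algebraically closed of characteristic `p`, `f : K[X]`, `F : K[Y][X]` with
`f(X+Y) - f(X) - f(Y) = F ^ p - e F`. Then `f = g ^ p - e g + a X` and
`F = g(X+Y) - g(X) - g(Y) + c` with `c ^ p = e c`.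
-/

set_option autoImplicit false

universe u

open Polynomial

namespace Groth.Agent.Sga7.H740.AddPoly

variable {K : Type u} [Field K]

/-- `f(X+Y) - f(X) - f(Y)` as a polynomial in `X` over `K[Y]`. -/
noncomputable def delta (f : K[X]) : K[X][X] :=
  taylor (X : K[X]) (f.map C) - f.map C - C f

lemma delta_add (f g : K[X]) : delta (f + g) = delta f + delta g := by
  simp only [delta, Polynomial.map_add, map_add]
  ring

lemma delta_neg (f : K[X]) : delta (-f) = - delta f := by
  simp only [delta, Polynomial.map_neg, map_neg]
  ring

lemma delta_sub (f g : K[X]) : delta (f - g) = delta f - delta g := by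
  rw [sub_eq_add_neg, delta_add, delta_neg, sub_eq_add_neg]

lemma delta_C_mul (a : K) (f : K[X]) : delta (C a * f) = C (C a) * delta f := by
  simp only [delta, Polynomial.map_mul, map_mul, Polynomial.map_C, taylor_mul, taylor_C]
  ring

lemma delta_X : delta (X : K[X]) = 0 := by
  simp [delta]

lemma delta_C (a : K) : delta (C a) = - C (C a) := by
  simp [delta]

lemma delta_pow (p : ℕ) [Fact p.Prime] [CharP K p] (f : K[X]) : delta (f ^ p) = delta f ^ p := by
  have : CharP K[X][X] p := inferInstance
  rw [delta, delta, sub_pow_char, sub_pow_char, Polynomial.map_pow, taylor_pow, C_pow]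

lemma delta_coeff_pred (f : K[X]) (n : ℕ) (hn : 2 ≤ n) (hf : f.natDegree ≤ n) :
    (delta f).coeff (n - 1) = C (n * f.coeff n) * X := by
  obtain ⟨m, rfl⟩ : ∃ m, n = m + 1 := ⟨n - 1, by omega⟩
  rw [Nat.add_sub_cancel, delta, coeff_sub, coeff_sub, taylor_coeff, coeff_map, coeff_C,
    if_neg (by omega), sub_zero]
  have h1 : (hasseDeriv m (f.map C) : K[X][X]) =
      C (C (f.coeff m)) + C (C ((m + 1 : ℕ) * f.coeff (m + 1))) * X := by
    ext1 i
    rw [hasseDeriv_coeff, coeff_map, coeff_add, coeff_C, coeff_C_mul, coeff_X]
    rcases i with _ | _ | i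
    · simp
    · rw [add_comm (0 + 1) m, zero_add, Nat.choose_succ_self_right]
      simp
    · rw [if_neg (by omega), if_neg (by omega), coeff_eq_zero_of_natDegree_lt (by omega)]
      simp
  rw [h1]
  simp

lemma delta_natDegree_lt (f : K[X]) (n : ℕ) (hn : 1 ≤ n) (hf : f.natDegree ≤ n) :
    (delta f).natDegree < n := by
  rw [← Nat.le_sub_one_iff_lt (by omega), natDegree_le_iff_coeff_eq_zero]
  intro N hN
  have hN' : n ≤ N := by omega
  rw [delta, coeff_sub, coeff_sub, taylor_coeff, coeff_map, coeff_C, if_neg (by omega), sub_zero]
  have h1 : (hasseDeriv N (f.map C) : K[X][X]) = C (C (f.coeff N)) := by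
    ext1 i
    rw [hasseDeriv_coeff, coeff_map, coeff_C]
    rcases i with _ | i
    · simp
    · rw [if_neg (by omega), coeff_eq_zero_of_natDegree_lt (by omega)]
      simp
  rw [h1]
  simp

/-- A polynomial over a domain with `F ^ p = e F` is constant. -/
lemma eq_C_of_pow_eq {R : Type u} [CommRing R] [IsDomain R] {p : ℕ} (hp : 2 ≤ p) (F : R[X]) (e : R)
    (h : F ^ p = C e * F) : F = C (F.coeff 0) := by
  apply eq_C_of_natDegree_eq_zero
  have h1 := congrArg natDegree h
  rw [natDegree_pow] at h1
  have h2 := natDegree_C_mul_le e F
  by_contra h3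
  have : 2 * F.natDegree ≤ p * F.natDegree := Nat.mul_le_mul_right _ hp
  omega

theorem key_aux [IsAlgClosed K] (p : ℕ) [Fact p.Prime] [CharP K p] (e : K) (n : ℕ) :
    ∀ (f : K[X]) (F : K[X][X]), f.natDegree ≤ n → delta f = F ^ p - C (C e) * F →
      ∃ (g : K[X]) (a : K), f = g ^ p - C e * g + C a * X := by
  have hp : 2 ≤ p := (Fact.out : p.Prime).two_le
  have hp0 : p ≠ 0 := by omega
  have hCC : CharP K[X] p := inferInstance
  induction n with
  | zero =>
    intro f F hf _
    obtain ⟨c, rfl⟩ : ∃ c, f = C c := ⟨f.coeff 0, eq_C_of_natDegree_le_zero hf⟩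
    obtain ⟨b, hb⟩ := IsAlgClosed.exists_root (X ^ p - C e * X - C c : K[X]) (by
      have h0 : (X ^ p - C e * X - C c : K[X]) = X ^ p - (C e * X + C c) := by ring
      rw [h0, degree_sub_eq_left_of_degree_lt]
      · rw [degree_X_pow]
        exact_mod_cast hp0
      · rw [degree_X_pow]
        refine lt_of_le_of_lt (degree_linear_le) ?_
        exact_mod_cast hp)
    refine ⟨C b, 0, ?_⟩
    have h1 : b ^ p - e * b - c = 0 := by simpa [IsRoot.def] using hb
    have h2 : c = b ^ p - e * b := by linear_combination -h1
    rw [h2]
    simp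
  | succ n ih =>
    intro f F hf h
    by_cases hpn : p ∣ n + 1
    · obtain ⟨m, hm⟩ := hpn
      have hm0 : m ≠ 0 := by
        rintro rfl
        simp at hm
      have hmn : m < n + 1 := by
        rw [hm]
        have : 2 * m ≤ p * m := Nat.mul_le_mul_right _ hp
        omega
      obtain ⟨b, hb⟩ := IsAlgClosed.exists_pow_nat_eq (f.coeff (n + 1)) (Nat.pos_of_ne_zero hp0)
      set q : K[X] := C b * X ^ m with hq
      have h1 : (f - (q ^ p - C e * q)).natDegree ≤ n := by
        rw [natDegree_le_iff_coeff_eq_zero]
        intro N hN
        rcases Nat.lt_or_ge (n + 1) N with h2 | h2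
        · rw [coeff_sub, coeff_eq_zero_of_natDegree_lt (by omega), zero_sub, neg_eq_zero,
            coeff_sub, hq, mul_pow, ← C_pow, ← pow_mul, coeff_C_mul, coeff_C_mul, coeff_C_mul,
            coeff_X_pow, coeff_X_pow, if_neg (by rw [mul_comm m p, ← hm]; omega),
            if_neg (by omega)]
          simp
        · have h3 : N = n + 1 := by omega
          subst h3
          rw [coeff_sub, coeff_sub, hq, mul_pow, ← C_pow, ← pow_mul, coeff_C_mul, coeff_C_mul,
            coeff_C_mul, coeff_X_pow, coeff_X_pow, if_pos (by rw [mul_comm m p, ← hm]),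
            if_neg (by omega), hb]
          simp
      have h2 : delta (f - (q ^ p - C e * q)) = (F - delta q) ^ p - C (C e) * (F - delta q) := by
        rw [delta_sub, delta_sub, delta_pow p, delta_C_mul e q, h, sub_pow_char]
        ring
      obtain ⟨g, a, hg⟩ := ih _ _ h1 h2
      refine ⟨g + q, a, ?_⟩
      rw [add_pow_char]
      linear_combination hg
    · rcases Nat.eq_zero_or_pos n with rfl | hn
      · -- linear polynomials
        obtain ⟨g, a, hg⟩ := ih (f - C (f.coeff 1) * X) F (by
            rw [natDegree_le_iff_coeff_eq_zero]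
            intro N hN
            rcases Nat.lt_or_ge 1 N with h2 | h2
            · rw [coeff_sub, coeff_eq_zero_of_natDegree_lt (by omega), coeff_C_mul, coeff_X,
                if_neg (by omega)]
              simp
            · have h3 : N = 1 := by omega
              subst h3
              simp) (by rw [delta_sub, delta_C_mul, delta_X, mul_zero, sub_zero, h])
        refine ⟨g, a + f.coeff 1, ?_⟩
        rw [C_add]
        linear_combination hg
      · have hc : f.coeff (n + 1) = 0 := by
          by_contra hne
          have hnK : ((n + 1 : ℕ) : K) ≠ 0 := by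
            rw [Ne, CharP.cast_eq_zero_iff K p]
            exact hpn
          have h1 := delta_coeff_pred f (n + 1) (by omega) hf
          rw [Nat.add_sub_cancel] at h1
          have h2 : (delta f).natDegree = n := by
            apply le_antisymm
            · have := delta_natDegree_lt f (n + 1) (by omega) hf
              omega
            · apply le_natDegree_of_ne_zero
              rw [h1]
              exact mul_ne_zero (by rw [Ne, C_eq_zero]; exact mul_ne_zero hnK hne) X_ne_zero
          -- degree of `F`
          have hF : F.natDegree ≠ 0 := by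
            intro h0
            rw [h] at h2
            have h3 : (F ^ p - C (C e) * F).natDegree ≤ 0 := by
              refine (natDegree_sub_le _ _).trans (max_le ?_ ?_)
              · rw [natDegree_pow, h0, mul_zero]
              · exact (natDegree_C_mul_le _ _).trans h0.le
            omega
          have h3 : (F ^ p - C (C e) * F).natDegree = p * F.natDegree := by
            rw [natDegree_sub_eq_left_of_natDegree_lt, natDegree_pow]
            refine (natDegree_C_mul_le _ _).trans_lt ?_
            rw [natDegree_pow]
            have : 2 * F.natDegree ≤ p * F.natDegree := Nat.mul_le_mul_right _ hp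
            omega
          have h4 : n = p * F.natDegree := by rw [← h2, h, h3]
          have h5 : (delta f).coeff n = (F.coeff F.natDegree) ^ p := by
            have h8 : (F ^ p).coeff n = (F.coeff F.natDegree) ^ p := by
              have h9 : (F ^ p).natDegree = n := by rw [natDegree_pow, h4]
              have h10 := leadingCoeff_pow F p
              rwa [leadingCoeff, h9] at h10
            have h11 : (C (C e) * F).coeff n = 0 := by
              apply coeff_eq_zero_of_natDegree_lt
              refine (natDegree_C_mul_le _ _).trans_lt ?_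
              have : 2 * F.natDegree ≤ p * F.natDegree := Nat.mul_le_mul_right _ hp
              omega
            rw [h, coeff_sub, h8, h11, sub_zero]
          rw [h1] at h5
          have h6 := congrArg natDegree h5
          rw [natDegree_pow, natDegree_C_mul_X _ (mul_ne_zero hnK hne)] at h6
          have h7 : p ∣ 1 := ⟨_, h6⟩
          rw [Nat.dvd_one] at h7
          omega
        refine ih f F ?_ h
        rw [natDegree_le_iff_coeff_eq_zero]
        intro N hN
        rcases Nat.lt_or_ge (n + 1) N with h2 | h2
        · exact coeff_eq_zero_of_natDegree_lt (by omega)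
        · have h3 : N = n + 1 := by omega
          rw [h3, hc]

theorem key [IsAlgClosed K] (p : ℕ) [Fact p.Prime] [CharP K p] (e : K) (f : K[X]) (F : K[X][X])
    (h : delta f = F ^ p - C (C e) * F) :
    ∃ (g : K[X]) (a c : K), f = g ^ p - C e * g + C a * X ∧ F = delta g + C (C c) ∧
      c ^ p = e * c := by
  have hp : 2 ≤ p := (Fact.out : p.Prime).two_le
  obtain ⟨g, a, hg⟩ := key_aux p e f.natDegree f F le_rfl h
  have h1 : (F - delta g) ^ p = C (C e) * (F - delta g) := by
    rw [sub_pow_char]
    have h2 : delta f = delta g ^ p - C (C e) * delta g := by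
      rw [hg, delta_add, delta_sub, delta_pow p, delta_C_mul, delta_C_mul, delta_X, mul_zero,
        add_zero]
    rw [h2] at h
    linear_combination -h
  have h2 := eq_C_of_pow_eq hp _ _ h1
  set w := (F - delta g).coeff 0 with hw
  have h3 : w ^ p = C e * w := by
    rw [h2, ← C_pow, ← C_mul, C_inj] at h1
    exact h1
  have h4 := eq_C_of_pow_eq hp _ _ h3
  refine ⟨g, a, w.coeff 0, hg, ?_, ?_⟩
  · rw [← h4, ← h2]
    ring
  · rw [h4, ← C_pow, ← C_mul, C_inj] at h3
    exact h3

end Groth.Agent.Sga7.H740.AddPoly
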