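import Groth.Agent.Sga7.H737.FlatMonoBC
import Groth.Agent.Models.WeilPts
import Mathlib.AlgebraicGeometry.Group.Abelian

/-!
# Commutativity of a group scheme over a discrete valuation ring with commutative generic fibre

`G` flat and separated over an integral domain `R` with fraction field `K`; if `G_K` is commutative
(e.g. an abelian variety) then so is `G`.
-/

set_option autoImplicit false

universe u

open CategoryTheory Limits MonoidalCategory CartesianMonoidalCategory MonObj GrpObj AlgebraicGeometry

namespace Groth.Agent.Sga7.H740.Comm

open Groth.Agent.Sga7.H737.FlatMonoBC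

attribute [local instance] Functor.grpObjObj

section

variable {C : Type*} [Category C] [CartesianMonoidalCategory C] [BraidedCategory C]

/-- A group object is commutative if the two projections commute. -/
theorem isCommMonObj_of_fst_snd {G : C} [GrpObj G] (h : fst G G * snd G G = snd G G * fst G G) :
    IsCommMonObj G where
  mul_comm := by
    have h1 : μ[G] = fst G G * snd G G := by
      rw [Hom.mul_def, lift_fst_snd, Category.id_comp]
    rw [h1, MonObj.comp_mul, braiding_hom_fst, braiding_hom_snd, h]

end

variable (R K : Type u) [CommRing R] [IsDomain R] [Field K] [Algebra R K] [IsFractionRing R K]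

theorem isSchemeTheoreticallyDominant_spec :
    IsSchemeTheoreticallyDominant (Spec.map (CommRingCat.ofHom (algebraMap R K))) := by
  have : Fact (Function.Injective (algebraMap R K)) := ⟨IsFractionRing.injective R K⟩
  infer_instance

variable (G : Over (Spec (CommRingCat.of R))) [GrpObj G]

/-- If the generic fibre is commutative then so is `G`. -/
theorem isCommMonObj_of_generic [Flat G.hom] [IsSeparated G.hom]
    (hK : IsCommMonObj ((Over.pullback (Spec.map (CommRingCat.ofHom (algebraMap R K)))).obj G)) :
    IsCommMonObj G := by
  apply isCommMonObj_of_fst_snd
  have h0 := isSchemeTheoreticallyDominant_spec R K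
  have h1 : Flat (G ⊗ G).hom := by
    rw [Over.tensorObj_hom]
    infer_instance
  apply ext_of_dominant (Spec.map (CommRingCat.ofHom (algebraMap R K)))
  have e : ∀ x y : G ⊗ G ⟶ G,
      (Over.pullback (Spec.map (CommRingCat.ofHom (algebraMap R K)))).map (x * y) =
      (Over.pullback (Spec.map (CommRingCat.ofHom (algebraMap R K)))).map x *
      (Over.pullback (Spec.map (CommRingCat.ofHom (algebraMap R K)))).map y := fun x y =>
    map_mul (Functor.homMonoidHom (Over.pullback (Spec.map (CommRingCat.ofHom (algebraMap R K))))
      (X := G ⊗ G) (M := G)) x y
  rw [e, e]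
  exact Hom.commGroup.mul_comm _ _

/-- A flat separated group scheme with generic fibre an abelian variety is commutative. -/
theorem isCommMonObj_of_abelian [Flat G.hom] [IsSeparated G.hom]
    [IsProper ((Over.pullback (Spec.map (CommRingCat.ofHom (algebraMap R K)))).obj G).hom]
    [GeometricallyIntegral
      ((Over.pullback (Spec.map (CommRingCat.ofHom (algebraMap R K)))).obj G).hom] :
    IsCommMonObj G :=
  isCommMonObj_of_generic R K G (isCommMonObj_of_isProper_of_geometricallyIntegral _)

end Groth.Agent.Sga7.H740.Comm
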