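import Groth.Agent.Sga7.H740.Fib
import Groth.Agent.Fdesc.GeomConn
import Groth.Prelude.Def_SGA7IX
import Mathlib.RingTheory.DiscreteValuationRing.Basic

/-!
# Generic and geometric special point of a discrete valuation ring

* `exists_points`: every point of `Spec R` is the image of `Spec K` or of the geometric special
  point;
* `natCast_ne_zero_iff`: `m ≠ 0` in the algebraic closure of the residue field of the closed point
  iff `m ≠ 0` in the residue field of `R`;
* `connectedSpace_geomFibre`: geometric fibres of groups with connected fibres are connected.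
-/

set_option autoImplicit false

universe u

open CategoryTheory Limits MonoidalCategory CartesianMonoidalCategory MonObj GrpObj AlgebraicGeometry

namespace Groth.Agent.Sga7.H740.Dvr

theorem specMap_closedPoint (R K : Type u) [CommRing R] [IsDomain R] [Field K] [Algebra R K]
    [IsFractionRing R K] (s : ↥(Spec (CommRingCat.of R))) (h : s.asIdeal = ⊥) :
    (Spec.map (CommRingCat.ofHom (algebraMap R K))) (IsLocalRing.closedPoint K) = s := by
  apply PrimeSpectrum.ext
  rw [h]
  change Ideal.comap (algebraMap R K) (IsLocalRing.maximalIdeal K) = ⊥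
  rw [IsLocalRing.maximalIdeal_eq_bot, Ideal.comap_bot_of_injective _
    (IsFractionRing.injective R K)]

theorem geomPt_closedPoint {S : Scheme.{u}} (s : S)
    (x : ↥(Spec (CommRingCat.of (AlgebraicClosure (S.residueField s))))) : Red.geomPt s x = s := by
  rw [Red.geomPt, Scheme.Hom.comp_apply, Scheme.fromSpecResidueField_apply]

theorem eq_closedPoint {R : Type u} [CommRing R] [IsDomain R] [IsDiscreteValuationRing R]
    (s s₀ : ↥(Spec (CommRingCat.of R))) (h : s.asIdeal ≠ ⊥) (h₀ : s₀.asIdeal ≠ ⊥) : s = s₀ := by
  have h1 : s.asIdeal.IsMaximal := Ideal.IsPrime.isMaximal s.isPrime h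
  have h2 : s₀.asIdeal.IsMaximal := Ideal.IsPrime.isMaximal s₀.isPrime h₀
  exact PrimeSpectrum.ext ((IsLocalRing.eq_maximalIdeal h1).trans
    (IsLocalRing.eq_maximalIdeal h2).symm)

theorem natCast_ne_zero_iff (R : Type u) [CommRing R] [IsLocalRing R] (m : ℕ) :
    (m : AlgebraicClosure ((Spec (CommRingCat.of R)).residueField (IsLocalRing.closedPoint R))) ≠ 0 ↔
      (m : IsLocalRing.ResidueField R) ≠ 0 := by
  let s : ↥(Spec (CommRingCat.of R)) := IsLocalRing.closedPoint R
  have h1 : (m : AlgebraicClosure ((Spec (CommRingCat.of R)).residueField s)) = 0 ↔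
      (m : (Spec (CommRingCat.of R)).residueField s) = 0 := by
    rw [← map_natCast (algebraMap ((Spec (CommRingCat.of R)).residueField s) _), map_eq_zero]
  have h2 : (m : (Spec (CommRingCat.of R)).residueField s) = 0 ↔ (m : s.asIdeal.ResidueField) = 0 := by
    have hinj := (ConcreteCategory.bijective_of_isIso
      (Scheme.Spec.residueFieldIso (CommRingCat.of R) s).hom).1
    rw [← map_natCast (Scheme.Spec.residueFieldIso (CommRingCat.of R) s).hom.hom m]
    exact (map_eq_zero_iff (Scheme.Spec.residueFieldIso (CommRingCat.of R) s).hom.hom hinj).symm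
  have h3 : (m : s.asIdeal.ResidueField) = 0 ↔ (m : R) ∈ IsLocalRing.maximalIdeal R := by
    rw [← map_natCast (algebraMap R s.asIdeal.ResidueField) m]
    exact Ideal.algebraMap_residueField_eq_zero
  have h4 : (m : IsLocalRing.ResidueField R) = 0 ↔ (m : R) ∈ IsLocalRing.maximalIdeal R := by
    rw [← map_natCast (IsLocalRing.residue R) m]
    exact IsLocalRing.residue_eq_zero_iff _
  rw [ne_eq, ne_eq, not_iff_not]
  exact h1.trans (h2.trans (h3.trans h4.symm))

section conn

/-- The identity is geometrically connected. -/
theorem geometricallyConnected_of_isIso {X Y : Scheme.{u}} (f : X ⟶ Y) [IsIso f] :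
    GeometricallyConnected f := by
  refine ⟨fun K _ y Z fst snd h ↦ ?_⟩
  have : IsIso snd := MorphismProperty.of_isPullback (P := MorphismProperty.isomorphisms Scheme.{u}) h
    (inferInstanceAs (IsIso f))
  exact (Scheme.homeoOfIso (asIso snd)).symm.surjective.connectedSpace
    (Scheme.homeoOfIso (asIso snd)).symm.continuous

/-- A connected group scheme over a field is geometrically connected. -/
theorem geometricallyConnected {k : Type u} [Field k] (G : Over (Spec (CommRingCat.of k)))
    [GrpObj G] [ConnectedSpace G.left] : GeometricallyConnected G.hom := by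
  let g : Spec (CommRingCat.of k) ⟶ G.left := (η[G] : 𝟙_ (Over (Spec (CommRingCat.of k))) ⟶ G).left
  have hg : g ≫ G.hom = 𝟙 _ := Over.w (η[G] : 𝟙_ (Over (Spec (CommRingCat.of k))) ⟶ G)
  have h1 : GeometricallyConnected (g ≫ G.hom) := by
    rw [hg]
    exact geometricallyConnected_of_isIso _
  exact Groth.Agent.Fdesc.GeomConn.geometricallyConnected_of_hom G.hom g

theorem connectedSpace_geomFibre {S : Scheme.{u}} (G : Over S) [GrpObj G] (s : S)
    (h : ConnectedSpace ↥(Red.bc (S.fromSpecResidueField s) G).left) :
    ConnectedSpace ↥(Red.geomFibre s G).left := by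
  have h1 := geometricallyConnected (k := S.residueField s) (Red.bc (S.fromSpecResidueField s) G)
  let a : Spec (CommRingCat.of (AlgebraicClosure (S.residueField s))) ⟶
    Spec (CommRingCat.of (S.residueField s)) :=
      Spec.map (CommRingCat.ofHom (algebraMap (S.residueField s) (AlgebraicClosure (S.residueField s))))
  have ha : a ≫ S.fromSpecResidueField s = Red.geomPt s := rfl
  let q : (Red.geomFibre s G).left ⟶ (Red.bc (S.fromSpecResidueField s) G).left :=
    pullback.lift (pullback.fst G.hom (Red.geomPt s)) (pullback.snd G.hom (Red.geomPt s) ≫ a) (by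
      rw [Category.assoc, ha]; exact pullback.condition)
  have hq : IsPullback q (Red.geomFibre s G).hom (Red.bc (S.fromSpecResidueField s) G).hom a := by
    refine IsPullback.of_right (h₁₂ := pullback.fst G.hom (S.fromSpecResidueField s))
      (v₁₃ := G.hom) (h₂₂ := S.fromSpecResidueField s) ?_ (pullback.lift_snd _ _ _)
      (IsPullback.of_hasPullback G.hom (S.fromSpecResidueField s))
    rw [pullback.lift_fst, ha]
    exact IsPullback.of_hasPullback G.hom (Red.geomPt s)
  exact h1.geometrically_connectedSpace a q (Red.geomFibre s G).hom hq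

end conn

end Groth.Agent.Sga7.H740.Dvr
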