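import Groth.Agent.UnramA.FibreFlat
import Groth.Agent.Grpsch.MulFlat
import Groth.Agent.Grpsch.QFin
import Groth.Prelude.Def_SGA7IX

/-!
# Morphisms over a base: flat, surjective, quasi-finite can be tested on geometric fibres

`S` a scheme, `f : X ⟶ Y` a morphism of `S`-schemes, `t i : Spec (L i) ⟶ S` jointly surjective
field-valued points.

* `flat_of_points`: `X` flat and locally of finite presentation over `S`, `Y` locally of finite
  type; if all the base changes of `f` to `Spec (L i)` are flat, then `f` is flat;
* `surjective_of_points`, `locallyQuasiFinite_of_points`.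
-/

set_option autoImplicit false

universe u

open CategoryTheory Limits MonoidalCategory CartesianMonoidalCategory MonObj GrpObj AlgebraicGeometry

namespace Groth.Agent.Sga7.H740.Fib

open Groth.Agent.Grpsch Groth.Agent.Grpsch.AbBC

section

variable {S : Scheme.{u}} {X Y : Over S} (f : X ⟶ Y)

/-- Descent of a property from a field-valued base change to the scheme-theoretic fibre. -/
theorem snd_fiberι {P : MorphismProperty Scheme.{u}}
    [P.DescendsAlong (@Surjective ⊓ @Flat ⊓ @QuasiCompact)] {L : Type u} [Field L]
    (t : Spec (CommRingCat.of L) ⟶ S) (s : S) (hs : t (IsLocalRing.closedPoint L) = s)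
    (h : P ((Over.pullback t).map f).left) : P (pullback.snd f.left (Y.hom.fiberι s)) := by
  subst hs
  let s := t (IsLocalRing.closedPoint L)
  let φ : S.residueField s ⟶ .of L := (Scheme.SpecToEquivOfField L S t).2
  have hφ : Spec.map φ ≫ S.fromSpecResidueField s = t :=
    (Scheme.SpecToEquivOfField L S).left_inv t
  -- the map on fibres
  let a : ((Over.pullback t).obj Y).left ⟶ Y.hom.fiber s :=
    pullback.lift (pullback.fst Y.hom t) (pullback.snd Y.hom t ≫ Spec.map φ) (by
      rw [Category.assoc, hφ]; exact pullback.condition)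
  have ha1 : a ≫ Y.hom.fiberι s = pullback.fst Y.hom t := pullback.lift_fst _ _ _
  have ha2 : a ≫ Y.hom.fiberToSpecResidueField s = pullback.snd Y.hom t ≫ Spec.map φ :=
    pullback.lift_snd _ _ _
  have hpa : IsPullback a (pullback.snd Y.hom t) (Y.hom.fiberToSpecResidueField s) (Spec.map φ) := by
    refine IsPullback.of_right (h₁₂ := Y.hom.fiberι s) (v₁₃ := Y.hom)
      (h₂₂ := S.fromSpecResidueField s) ?_ ha2 ?_
    · rw [ha1, hφ]
      exact IsPullback.of_hasPullback Y.hom t
    · exact IsPullback.of_hasPullback Y.hom (S.fromSpecResidueField s)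
  have hφ1 : Flat (Spec.map φ) := by
    let _ : Field (S.residueField s) := inferInstance
    let _ : Algebra (S.residueField s) L := φ.hom.toAlgebra
    rw [Flat.SpecMap_iff]
    exact Module.Flat.of_free
  have hφ2 : Surjective (Spec.map φ) := by
    have hsub : Subsingleton ↥(Spec (S.residueField s)) :=
      inferInstanceAs (Subsingleton (PrimeSpectrum (S.residueField s)))
    have hne : Nonempty ↥(Spec (CommRingCat.of L)) := inferInstanceAs (Nonempty (PrimeSpectrum L))
    exact ⟨fun y => ⟨hne.some, Subsingleton.elim _ _⟩⟩
  have hQ : (@Surjective ⊓ @Flat ⊓ @QuasiCompact : MorphismProperty Scheme.{u}) a := by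
    refine ⟨⟨?_, ?_⟩, ?_⟩
    · exact MorphismProperty.of_isPullback (P := @Surjective) hpa.flip hφ2
    · exact MorphismProperty.of_isPullback (P := @Flat) hpa.flip hφ1
    · exact MorphismProperty.of_isPullback (P := @QuasiCompact) hpa.flip inferInstance
  -- the square
  have h1 : IsPullback ((Over.pullback t).map f).left (pullback.fst X.hom t)
      (a ≫ Y.hom.fiberι s) f.left := by
    rw [ha1]
    exact isPullback_pullback_map t f
  have h2 : IsPullback (pullback.snd f.left (Y.hom.fiberι s))
      (pullback.fst f.left (Y.hom.fiberι s)) (Y.hom.fiberι s) f.left :=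
    (IsPullback.of_hasPullback f.left (Y.hom.fiberι s)).flip
  have h3 := IsPullback.of_right' h1.flip h2.flip
  exact MorphismProperty.of_isPullback_of_descendsAlong
    (Q := @Surjective ⊓ @Flat ⊓ @QuasiCompact) h3.flip hQ h

/-- Flatness can be tested on field-valued base changes. -/
theorem flat_of_points [Flat X.hom] [LocallyOfFinitePresentation X.hom] [LocallyOfFiniteType Y.hom]
    (h : ∀ s : S, ∃ (L : Type u) (_ : Field L) (t : Spec (CommRingCat.of L) ⟶ S),
      t (IsLocalRing.closedPoint L) = s ∧ Flat ((Over.pullback t).map f).left) :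
    Flat f.left := by
  refine (UnramA.FibreFlat.flat_and_flat_of_fibres Y.hom X.hom f.left (Over.w f) fun s => ?_).1
  obtain ⟨L, _, t, hs, hf⟩ := h s
  have := MulFlat.flat_descends.{u}
  exact snd_fiberι f t s hs hf

/-- Surjectivity can be tested on field-valued base changes. -/
theorem surjective_of_points
    (h : ∀ s : S, ∃ (L : Type u) (_ : Field L) (t : Spec (CommRingCat.of L) ⟶ S),
      t (IsLocalRing.closedPoint L) = s ∧ Surjective ((Over.pullback t).map f).left) :
    Surjective f.left := by
  refine ⟨fun y => ?_⟩
  obtain ⟨L, _, t, hs, hf⟩ := h (Y.hom y)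
  obtain ⟨z, hz, -⟩ := Scheme.exists_preimage_of_isPullback (IsPullback.of_hasPullback Y.hom t) y
    (IsLocalRing.closedPoint L) hs.symm
  obtain ⟨w, hw⟩ := ((Over.pullback t).map f).left.surjective z
  refine ⟨pullback.fst X.hom t w, ?_⟩
  have h1 := congr($((isPullback_pullback_map t f).w) w)
  rw [← hz, ← hw]
  exact h1.symm

/-- Quasi-finiteness can be tested on field-valued base changes. -/
theorem locallyQuasiFinite_of_points [LocallyOfFiniteType f.left] [QuasiCompact f.left]
    (h : ∀ s : S, ∃ (L : Type u) (_ : Field L) (t : Spec (CommRingCat.of L) ⟶ S),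
      t (IsLocalRing.closedPoint L) = s ∧ LocallyQuasiFinite ((Over.pullback t).map f).left) :
    LocallyQuasiFinite f.left := by
  rw [locallyQuasiFinite_iff_finite_preimage_singleton]
  intro y
  obtain ⟨L, _, t, hs, hf⟩ := h (Y.hom y)
  obtain ⟨z, hz, -⟩ := Scheme.exists_preimage_of_isPullback (IsPullback.of_hasPullback Y.hom t) y
    (IsLocalRing.closedPoint L) hs.symm
  have hqc : QuasiCompact ((Over.pullback t).map f).left :=
    MorphismProperty.of_isPullback (P := @QuasiCompact) (isPullback_pullback_map t f).flip
      inferInstance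
  have h1 := ((Over.pullback t).map f).left.finite_preimage_singleton z
  have h2 := QFin.finite_preimage_of_isPullback' (isPullback_pullback_map t f).flip z h1
  rw [hz] at h2
  exact h2

end

end Groth.Agent.Sga7.H740.Fib
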