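import Groth.Agent.Grpsch.MulFinFlat
import Groth.Agent.Grpsch.MulFlat
import Groth.Agent.Sga4h.GeoDim2
import Groth.Agent.CycB.PushLocal
import Groth.Agent.Sga3C.ArtinHom

/-!
# Endomorphisms of group varieties: flat, surjective and quasi-finite are equivalent

`f : G ⟶ H` a homomorphism of integral group schemes of finite type over a field.

* `surjective_of_generic`: if `f` maps the generic point to the generic point then it is surjective;
* `generic_of_flat`, `generic_of_surjective`, `generic_of_locallyQuasiFinite`;
* `locallyQuasiFinite_of_generic`: over an algebraically closed field, if the dimensions agree;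
* `tfae_of_isAlgClosed`.
-/

set_option autoImplicit false

universe u

open CategoryTheory Limits MonoidalCategory CartesianMonoidalCategory MonObj GrpObj AlgebraicGeometry

namespace Groth.Agent.Sga7.H740.Fld

open Groth.Agent.Sga4h.GeoDim Groth.Agent.Grpsch Groth.Agent.Grpsch.AbStalk
  Groth.Agent.Grpsch.AbEtale

section

variable {K : Type u} [Field K] {G H : Over (Spec (CommRingCat.of K))}

theorem surjective_of_generic [GrpObj G] [GrpObj H] (f : G ⟶ H) [IsMonHom f] [IsIntegral G.left]
    [IsIntegral H.left] [LocallyOfFiniteType G.hom] [LocallyOfFiniteType H.hom]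
    [QuasiCompact f.left] (h : f.left (genericPoint G.left) = genericPoint H.left) :
    Surjective f.left := by
  have hcl : IsClosed (Set.range f.left) := Sga3C.ArtinHom.isClosed_range (A := K) f
  refine ⟨fun y => ?_⟩
  have h1 : genericPoint H.left ∈ Set.range f.left := ⟨_, h⟩
  have h2 : closure {genericPoint H.left} ⊆ Set.range f.left :=
    hcl.closure_subset_iff.2 (Set.singleton_subset_iff.2 h1)
  rw [genericPoint_closure] at h2
  exact h2 (Set.mem_univ y)

theorem generic_of_flat (f : G ⟶ H) [IsIntegral G.left] [IsIntegral H.left] [Flat f.left] :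
    f.left (genericPoint G.left) = genericPoint H.left := by
  obtain ⟨x, hx, hx'⟩ := Flat.generalizingMap f.left (genericPoint_specializes (f.left (genericPoint G.left)))
  have h2 : x = genericPoint G.left := (hx.antisymm (genericPoint_specializes x)).eq
  rw [← h2, hx']

theorem generic_of_surjective (f : G ⟶ H) [IsIntegral G.left] [IsIntegral H.left]
    [Surjective f.left] : f.left (genericPoint G.left) = genericPoint H.left := by
  obtain ⟨x, hx⟩ := f.left.surjective (genericPoint H.left)
  have h1 : f.left (genericPoint G.left) ⤳ f.left x :=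
    (genericPoint_specializes x).map f.left.continuous
  rw [hx] at h1
  exact (h1.antisymm (genericPoint_specializes _)).eq

theorem trdegAt_hom (f : G ⟶ H) (x : G.left) :
    trdegAt G.hom x = trdegAt H.hom (f.left x) + trdegAt f.left x := by
  have h1 := trdegAt_comp f.left H.hom x
  rw [← h1]
  congr 1
  exact (Over.w f).symm

theorem generic_of_locallyQuasiFinite (f : G ⟶ H) [IsIntegral G.left] [IsIntegral H.left]
    [LocallyOfFiniteType H.hom] [LocallyQuasiFinite f.left]
    (hdim : trdegAt G.hom (genericPoint G.left) = trdegAt H.hom (genericPoint H.left)) :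
    f.left (genericPoint G.left) = genericPoint H.left := by
  by_contra hne
  have h1 := trdegAt_hom f (genericPoint G.left)
  rw [trdegAt_eq_zero_of_locallyQuasiFinite f.left, add_zero, hdim] at h1
  have h2 := trdegAt_lt_of_specializes H.hom (genericPoint_specializes (f.left (genericPoint G.left)))
    (Ne.symm hne) (Subsingleton.elim (α := ↥(Spec (CommRingCat.of K))) _ _)
  exact h2.ne h1.symm

theorem eq_generic_of_map_eq (f : G ⟶ H) [IsIntegral G.left] [IsIntegral H.left]
    [LocallyOfFiniteType G.hom]
    (hdim : trdegAt G.hom (genericPoint G.left) = trdegAt H.hom (genericPoint H.left))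
    (x : G.left) (hx : f.left x = genericPoint H.left) : x = genericPoint G.left := by
  by_contra hne
  have h1 := trdegAt_hom f x
  rw [hx, ← hdim] at h1
  have h2 := trdegAt_lt_of_specializes G.hom (genericPoint_specializes x)
    (Ne.symm hne) (Subsingleton.elim (α := ↥(Spec (CommRingCat.of K))) _ _)
  rw [h1] at h2
  exact absurd h2 (not_lt.2 le_self_add)

theorem quasiFiniteAt_generic (f : G ⟶ H) [IsIntegral G.left] [IsIntegral H.left]
    [LocallyOfFiniteType G.hom] [LocallyOfFiniteType f.left]
    (hdim : trdegAt G.hom (genericPoint G.left) = trdegAt H.hom (genericPoint H.left))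
    (h : f.left (genericPoint G.left) = genericPoint H.left) :
    f.left.QuasiFiniteAt (genericPoint G.left) := by
  refine CycB.PushLocal.quasiFiniteAt_of_discrete f.left (genericPoint H.left) ?_ _ h
  intro x x' _ hx hx'
  rw [eq_generic_of_map_eq f hdim x hx, eq_generic_of_map_eq f hdim x' hx']

theorem locallyQuasiFinite_of_generic [IsAlgClosed K] [GrpObj G] [GrpObj H] (f : G ⟶ H)
    [IsMonHom f] [IsIntegral G.left] [IsIntegral H.left]
    [LocallyOfFiniteType G.hom] [LocallyOfFiniteType f.left]
    (hdim : trdegAt G.hom (genericPoint G.left) = trdegAt H.hom (genericPoint H.left))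
    (h : f.left (genericPoint G.left) = genericPoint H.left) :
    LocallyQuasiFinite f.left := by
  have hJ : JacobsonSpace G.left := LocallyOfFiniteType.jacobsonSpace G.hom
  have h0 := quasiFiniteAt_generic f hdim h
  -- a closed point where `f` is quasi-finite
  obtain ⟨x, hxU, hx⟩ := nonempty_inter_closedPoints (X := G.left)
    (Z := (f.left.quasiFiniteLocus : Set G.left)) ⟨_, h0⟩
    f.left.quasiFiniteLocus.isOpen.isLocallyClosed
  have h1 : (f.left.stalkMap x).hom.QuasiFinite := hxU
  have hx' : IsClosed {x} := hx
  let z : 𝟙_ (Over (Spec (.of K))) ⟶ G :=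
    Over.homMk (pointOfClosedPoint G.hom x hx') (pointOfClosedPoint_comp G.hom x hx')
  have hz : (transl z).left (pt η[G]) = x := by
    have h1 := congr(($(eta_transl z)).left (IsLocalRing.closedPoint K))
    exact h1.trans (pointOfClosedPoint_apply G.hom x hx' _)
  rw [← hz] at h1
  have h2 : (f.left.stalkMap (pt η[G])).hom.QuasiFinite :=
    (stalkMap_iff_of_iso RingHom.QuasiFinite.respectsIso (transl z).left (transl (z ≫ f)).left
      congr(($(transl_comp f z)).left) (pt η[G])).mp h1
  have h3 : ∀ y : G.left, IsClosed {y} → (f.left.stalkMap y).hom.QuasiFinite :=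
    fun y hy => stalkMap_of_origin RingHom.QuasiFinite.respectsIso f h2 y hy
  rw [← Scheme.Hom.quasiFiniteLocus_eq_top_iff, eq_top_iff]
  intro y _
  by_contra hy
  obtain ⟨w, hw, hw'⟩ := nonempty_inter_closedPoints (X := G.left)
    (Z := (f.left.quasiFiniteLocus : Set G.left)ᶜ) ⟨y, hy⟩
    f.left.quasiFiniteLocus.isOpen.isClosed_compl.isLocallyClosed
  exact hw (h3 w hw')

/-- Flat, surjective and quasi-finite are equivalent for homomorphisms of group varieties of the
same dimension over an algebraically closed field. -/
theorem tfae_of_isAlgClosed [IsAlgClosed K] [GrpObj G] [GrpObj H] (f : G ⟶ H)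
    [IsMonHom f] [IsIntegral G.left] [IsIntegral H.left]
    [LocallyOfFiniteType G.hom] [LocallyOfFiniteType H.hom] [QuasiCompact f.left]
    (hdim : trdegAt G.hom (genericPoint G.left) = trdegAt H.hom (genericPoint H.left)) :
    [Flat f.left, Surjective f.left, LocallyQuasiFinite f.left].TFAE := by
  have hft : LocallyOfFiniteType f.left := by
    have : LocallyOfFiniteType (f.left ≫ H.hom) := by rw [Over.w]; infer_instance
    exact locallyOfFiniteType_of_comp f.left H.hom
  have hln : IsLocallyNoetherian H.left :=
    LocallyOfFiniteType.isLocallyNoetherian (Y := Spec (CommRingCat.of K)) H.hom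
  tfae_have 1 → 2 := fun _ => surjective_of_generic f (generic_of_flat f)
  tfae_have 2 → 1 := fun _ => MulFinFlat.flat_of_surjective K f
  tfae_have 2 → 3 := fun _ => locallyQuasiFinite_of_generic f hdim (generic_of_surjective f)
  tfae_have 3 → 2 := fun _ => surjective_of_generic f (generic_of_locallyQuasiFinite f hdim)
  tfae_finish

end

end Groth.Agent.Sga7.H740.Fld
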