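import Groth.Agent.Sga7.H740.GaRetr
import Groth.Agent.Sga7.H740.AddPoly
import Mathlib.RingTheory.AlgebraicIndependent.Basic
import Mathlib.RingTheory.Algebraic.Basic

/-!
# The coboundary of an additive cocycle is a polynomial in the primitive element

`A` a commutative cocommutative Hopf algebra over a field, `T` primitive, `y : A` with
`(id ⊗ π) Δ y = y ⊗ 1 + 1 ⊗ c`, `π : A → A / T A`.

* `exists_poly`: `Δ y - y ⊗ 1 - 1 ⊗ y` is a polynomial in `T ⊗ 1` and `1 ⊗ T`;
* `ev_injective`: `T ⊗ 1` and `1 ⊗ T` are algebraically independent if `T` is transcendental.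
-/

set_option autoImplicit false

universe u v

open TensorProduct HopfRep WithConv Polynomial

namespace Groth.Agent.Sga7.H740.GaCoc

open Groth.Agent.Books.UnipExt Groth.Agent.Books.ComodBasic Groth.Agent.Books.CoidealFlat
open Groth.Agent.Sga7.H740.GaRetr Groth.Agent.Sga7.H740.AddPoly

variable {K : Type u} [Field K] {A : Type v} [CommRing A] [HopfAlgebra K A] {T : A}

/-- Evaluation of a polynomial in `Y`, `X` at `T ⊗ 1`, `1 ⊗ T`. -/
noncomputable def ev (K : Type u) [Field K] {A : Type v} [CommRing A] [HopfAlgebra K A] (T : A) :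
    K[X][X] →+* A ⊗[K] A :=
  Polynomial.eval₂RingHom (Polynomial.aeval (T ⊗ₜ[K] (1 : A)) : K[X] →ₐ[K] A ⊗[K] A).toRingHom
    ((1 : A) ⊗ₜ[K] T)

lemma ev_C (f : K[X]) : ev K T (C f) = (aeval T f) ⊗ₜ[K] (1 : A) := by
  rw [ev, coe_eval₂RingHom, eval₂_C]
  have h := Polynomial.aeval_algHom_apply
    (Algebra.TensorProduct.includeLeft : A →ₐ[K] A ⊗[K] A) T f
  exact h

lemma ev_X : ev K T X = (1 : A) ⊗ₜ[K] T := by
  rw [ev, coe_eval₂RingHom, eval₂_X]

lemma ev_map_C (f : K[X]) : ev K T (f.map C) = (1 : A) ⊗ₜ[K] (aeval T f) := by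
  have h1 : ((ev K T).comp (Polynomial.mapRingHom (C : K →+* K[X]))) =
      ((Algebra.TensorProduct.includeRight : A →ₐ[K] A ⊗[K] A).comp
        (Polynomial.aeval T : K[X] →ₐ[K] A)).toRingHom := by
    apply Polynomial.ringHom_ext
    · intro a
      change ev K T ((C a : K[X]).map C) = (1 : A) ⊗ₜ[K] (aeval T (C a))
      rw [Polynomial.map_C, ev_C, aeval_C, Algebra.algebraMap_eq_smul_one,
        TensorProduct.smul_tmul]
    · change ev K T ((X : K[X]).map C) = (1 : A) ⊗ₜ[K] (aeval T (X : K[X]))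
      rw [Polynomial.map_X, ev_X, aeval_X]
  exact congrArg (fun g => g f) h1

lemma ev_taylor (f : K[X]) : ev K T (taylor (X : K[X]) (f.map C)) =
    aeval (T ⊗ₜ[K] (1 : A) + (1 : A) ⊗ₜ[K] T) f := by
  have h1 : ((ev K T).comp ((Polynomial.taylorAlgHom (X : K[X])).toRingHom.comp
      (Polynomial.mapRingHom (C : K →+* K[X])))) =
      (Polynomial.aeval (T ⊗ₜ[K] (1 : A) + (1 : A) ⊗ₜ[K] T) : K[X] →ₐ[K] A ⊗[K] A).toRingHom := by
    apply Polynomial.ringHom_ext
    · intro a
      change ev K T (taylor (X : K[X]) ((C a : K[X]).map C)) = aeval _ (C a)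
      rw [Polynomial.map_C, taylor_C, ev_C, aeval_C, aeval_C]
      rfl
    · change ev K T (taylor (X : K[X]) ((X : K[X]).map C)) = aeval _ (X : K[X])
      rw [Polynomial.map_X, taylor_X, map_add, ev_X, ev_C, aeval_X, aeval_X, add_comm]
  exact congrArg (fun g => g f) h1

lemma ev_delta (hT : IsPrim K T) (f : K[X]) : ev K T (delta f) =
    CoalgebraStruct.comul (R := K) (aeval T f) - (aeval T f) ⊗ₜ[K] (1 : A) -
      (1 : A) ⊗ₜ[K] (aeval T f) := by
  have h : CoalgebraStruct.comul (R := K) (aeval T f) =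
      aeval (T ⊗ₜ[K] (1 : A) + (1 : A) ⊗ₜ[K] T) f := by
    rw [← hT]
    exact (Polynomial.aeval_algHom_apply (Bialgebra.comulAlgHom K A) T f).symm
  rw [delta, map_sub, map_sub, ev_taylor, ev_map_C, ev_C, h]
  ring

lemma ev_injective (hT : Transcendental K T) : Function.Injective (ev K T) := by
  rw [injective_iff_map_eq_zero]
  intro F hF
  have hinj : Function.Injective (Polynomial.aeval T : K[X] →ₐ[K] A).toLinearMap :=
    transcendental_iff_injective.1 hT
  obtain ⟨l, hl⟩ := LinearMap.exists_leftInverse_of_injective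
    (Polynomial.aeval T : K[X] →ₐ[K] A).toLinearMap (LinearMap.ker_eq_bot.2 hinj)
  have hl' : ∀ f : K[X], l (aeval T f) = f := fun f => LinearMap.congr_fun hl f
  have key : ∀ (F : K[X][X]) (j : ℕ),
      slice A ((Polynomial.lcoeff K j) ∘ₗ l) (ev K T F) = aeval T (F.coeff j) := by
    intro F j
    induction F using Polynomial.induction_on' with
    | add p q hp hq => rw [map_add, map_add, hp, hq, coeff_add, map_add]
    | monomial n a =>
      have h1 : ev K T (monomial n a) = (aeval T a) ⊗ₜ[K] (T ^ n) := by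
        rw [← C_mul_X_pow_eq_monomial, map_mul, map_pow, ev_C, ev_X,
          Algebra.TensorProduct.tmul_pow, one_pow, Algebra.TensorProduct.tmul_mul_tmul, mul_one,
          one_mul]
      rw [h1, slice_tmul, LinearMap.comp_apply]
      have h2 : T ^ n = aeval T (X ^ n : K[X]) := by rw [map_pow, aeval_X]
      rw [h2, hl', Polynomial.lcoeff_apply, coeff_X_pow, coeff_monomial]
      by_cases h : j = n
      · rw [if_pos h, if_pos h.symm, one_smul]
      · rw [if_neg h, if_neg (Ne.symm h), zero_smul, map_zero]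
  ext1 j
  rw [coeff_zero]
  apply hinj
  have h1 := key F j
  rw [hF, map_zero] at h1
  rw [map_zero]
  exact h1.symm

/-- Slices on the left factor. -/
noncomputable def lslice (φ : A →ₗ[K] K) : A ⊗[K] A →ₗ[K] A :=
  (TensorProduct.lid K A).toLinearMap ∘ₗ φ.rTensor A

lemma lslice_tmul (φ : A →ₗ[K] K) (a b : A) : lslice φ (a ⊗ₜ[K] b) = φ a • b := by
  simp [lslice]

lemma lslice_comm (φ : A →ₗ[K] K) (z : A ⊗[K] A) :
    lslice φ z = slice A φ (TensorProduct.comm K A A z) := by
  induction z with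
  | zero => simp
  | add x y hx hy => simp only [map_add, hx, hy]
  | tmul x y => rw [lslice_tmul, TensorProduct.comm_tmul, slice_tmul]

/-- The left slices of the coboundary of `y` are polynomials in `T`. -/
lemma lslice_mem (hT : IsPrim K T) (y : A) (c : A ⧸ Ideal.span {T})
    (hy : rho (K := K) T y = y ⊗ₜ[K] 1 + 1 ⊗ₜ[K] c) (φ : A →ₗ[K] K) :
    lslice φ (CoalgebraStruct.comul (R := K) y - y ⊗ₜ[K] (1 : A) - (1 : A) ⊗ₜ[K] y) ∈
      Algebra.adjoin K {T} := by
  let π : A →ₐ[K] (A ⧸ Ideal.span {T}) := Ideal.Quotient.mkₐ K (Ideal.span {T})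
  have hπ : Function.Surjective π := Ideal.Quotient.mk_surjective
  have hker : RingHom.ker π ≤ Ideal.span {T} := by
    intro x hx
    exact Ideal.Quotient.eq_zero_iff_mem.1 hx
  refine hT.mem_adjoin_of_inv π hπ hker _ ?_
  have hrho : ∀ x : A, π.toLinearMap.lTensor A (CoalgebraStruct.comul (R := K) x) =
      rho (K := K) T x := by
    intro x
    rw [rho_apply]
    generalize (CoalgebraStruct.comul (R := K) x : A ⊗[K] A) = w
    induction w with
    | zero => simp
    | add u v hu hv => simp only [map_add, hu, hv]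
    | tmul u v => rfl
  rw [hrho]
  -- `ρ (φ ⊗ id) z = (φ ⊗ id ⊗ id) (id ⊗ ρ) z`
  let L : A ⊗[K] (A ⊗[K] (A ⧸ Ideal.span {T})) →ₗ[K] A ⊗[K] (A ⧸ Ideal.span {T}) :=
    (TensorProduct.lid K _).toLinearMap ∘ₗ φ.rTensor _
  have hL : ∀ (a : A) (w : A ⊗[K] (A ⧸ Ideal.span {T})), L (a ⊗ₜ w) = φ a • w := by
    intro a w
    simp [L]
  have h1 : ∀ z : A ⊗[K] A, rho (K := K) T (lslice φ z) =
      L ((rho (K := K) T).toLinearMap.lTensor A z) := by
    intro z
    induction z with
    | zero => simp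
    | add x y hx hy => simp only [map_add, hx, hy]
    | tmul x y =>
      rw [lslice_tmul, LinearMap.lTensor_tmul, hL, map_smul]
      rfl
  -- `(id ⊗ ρ) Δ y = Δ y ⊗ 1 + 1 ⊗ 1 ⊗ c`
  have h2 : (rho (K := K) T).toLinearMap.lTensor A (CoalgebraStruct.comul (R := K) y) =
      (TensorProduct.assoc K A A (A ⧸ Ideal.span {T}))
        ((CoalgebraStruct.comul (R := K) (A := A)).rTensor _ (rho (K := K) T y)) := by
    have h3 : (rho (K := K) T).toLinearMap = π.toLinearMap.lTensor A ∘ₗ
        CoalgebraStruct.comul (R := K) := by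
      ext x
      exact (hrho x).symm
    rw [h3, LinearMap.lTensor_comp, LinearMap.comp_apply]
    have h4 := Coalgebra.coassoc_apply (R := K) y
    change (TensorProduct.assoc K A A A) ((CoalgebraStruct.comul (R := K) (A := A)).rTensor A _) = _
      at h4
    rw [← h4, ← hrho]
    generalize (CoalgebraStruct.comul (R := K) y : A ⊗[K] A) = w
    induction w with
    | zero => simp
    | add u v hu hv => simp only [map_add, hu, hv]
    | tmul u v =>
      rw [LinearMap.rTensor_tmul, LinearMap.lTensor_tmul, LinearMap.rTensor_tmul]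
      generalize (CoalgebraStruct.comul (R := K) u : A ⊗[K] A) = w
      induction w with
      | zero => simp
      | add u v hu hv => simp only [map_add, TensorProduct.add_tmul, hu, hv]
      | tmul u v => rfl
  have h8 : (rho (K := K) T).toLinearMap.lTensor A (CoalgebraStruct.comul (R := K) y -
      y ⊗ₜ[K] (1 : A) - (1 : A) ⊗ₜ[K] y) =
      (rho (K := K) T).toLinearMap.lTensor A (CoalgebraStruct.comul (R := K) y) -
      (rho (K := K) T).toLinearMap.lTensor A (y ⊗ₜ[K] (1 : A)) -
      (rho (K := K) T).toLinearMap.lTensor A ((1 : A) ⊗ₜ[K] y) := by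
    rw [map_sub, map_sub]
  rw [h1, h8, h2, hy, map_add, map_add, LinearMap.rTensor_tmul,
    LinearMap.rTensor_tmul, LinearMap.lTensor_tmul, LinearMap.lTensor_tmul]
  have h5 : (rho (K := K) T).toLinearMap y = y ⊗ₜ[K] 1 + 1 ⊗ₜ[K] c := hy
  have h6 : (rho (K := K) T).toLinearMap 1 = (1 : A) ⊗ₜ[K] (1 : A ⧸ Ideal.span {T}) := map_one (rho (K := K) T)
  rw [h5, h6, Bialgebra.comul_one, Algebra.TensorProduct.one_def, TensorProduct.assoc_tmul,
    map_sub, map_sub, map_add, hL, hL, hL]
  have h7 : ∀ z : A ⊗[K] A, L ((TensorProduct.assoc K A A (A ⧸ Ideal.span {T})) (z ⊗ₜ 1)) =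
      (lslice φ z) ⊗ₜ[K] 1 := by
    intro z
    induction z with
    | zero => simp
    | add x y hx hy => simp only [map_add, TensorProduct.add_tmul, hx, hy]
    | tmul u v =>
      rw [TensorProduct.assoc_tmul, hL, lslice_tmul, TensorProduct.smul_tmul']
  rw [h7, map_sub, map_sub, lslice_tmul, lslice_tmul, TensorProduct.sub_tmul,
    TensorProduct.sub_tmul, smul_add, TensorProduct.smul_tmul', TensorProduct.smul_tmul',
    TensorProduct.smul_tmul']
  abel

/-- An element of `A ⊗ A` all of whose slices are polynomials in `T` is a polynomial in `T ⊗ 1`,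
`1 ⊗ T`. -/
lemma exists_poly_of_slices (z : A ⊗[K] A)
    (h1 : ∀ φ : A →ₗ[K] K, slice A φ z ∈ Algebra.adjoin K {T})
    (h2 : ∀ φ : A →ₗ[K] K, lslice φ z ∈ Algebra.adjoin K {T}) : ∃ F : K[X][X], ev K T F = z := by
  let W : Submodule K A := Subalgebra.toSubmodule (Algebra.adjoin K {T})
  obtain ⟨z', hz'⟩ := (mem_range_rTensor_iff W z).2 h1
  have h3 : ∀ φ : W →ₗ[K] K, slice A φ (TensorProduct.comm K W A z') ∈ W := by
    intro φ
    obtain ⟨φ', hφ'⟩ := LinearMap.exists_extend φ
    have h4 : slice A φ (TensorProduct.comm K W A z') = lslice φ' z := by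
      rw [← hz', ← hφ']
      clear hz'
      induction z' with
      | zero => simp
      | add x y hx hy => simp only [map_add, hx, hy]
      | tmul x y =>
        rw [TensorProduct.comm_tmul, slice_tmul, LinearMap.rTensor_tmul, lslice_tmul,
          LinearMap.comp_apply]
    rw [h4]
    exact h2 φ'
  obtain ⟨z'', hz''⟩ := (mem_range_rTensor_iff W (TensorProduct.comm K W A z')).2 h3
  have h5 : z = TensorProduct.comm K A A (TensorProduct.map W.subtype W.subtype z'') := by
    rw [← hz']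
    have h6 : z' = (TensorProduct.comm K W A).symm (W.subtype.rTensor W z'') := by
      rw [hz'', LinearEquiv.symm_apply_apply]
    rw [h6]
    clear hz'' h6 hz'
    induction z'' with
    | zero => simp
    | add x y hx hy => simp only [map_add, hx, hy]
    | tmul x y => rfl
  rw [h5]
  clear hz'' h5 hz' h1 h2 h3
  have hrg : ∀ w : W, ∃ f : K[X], aeval T f = (w : A) := by
    intro w
    have h := w.2
    change (w : A) ∈ Algebra.adjoin K {T} at h
    rw [Algebra.adjoin_singleton_eq_range_aeval] at h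
    exact h
  induction z'' with
  | zero => exact ⟨0, by simp⟩
  | add x y hx hy =>
    obtain ⟨f, hf⟩ := hx
    obtain ⟨g, hg⟩ := hy
    exact ⟨f + g, by rw [map_add, hf, hg, map_add, map_add]⟩
  | tmul x y =>
    obtain ⟨f, hf⟩ := hrg x
    obtain ⟨g, hg⟩ := hrg y
    refine ⟨C g * f.map C, ?_⟩
    rw [map_mul, ev_C, ev_map_C, hf, hg, Algebra.TensorProduct.tmul_mul_tmul, mul_one, one_mul]
    rfl

theorem exists_poly [Coalgebra.IsCocomm K A] (hT : IsPrim K T) (y : A) (c : A ⧸ Ideal.span {T})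
    (hy : rho (K := K) T y = y ⊗ₜ[K] 1 + 1 ⊗ₜ[K] c) :
    ∃ F : K[X][X], ev K T F =
      CoalgebraStruct.comul (R := K) y - y ⊗ₜ[K] (1 : A) - (1 : A) ⊗ₜ[K] y := by
  refine exists_poly_of_slices _ (fun φ => ?_) (lslice_mem hT y c hy)
  have h := lslice_mem hT y c hy φ
  have h1 : TensorProduct.comm K A A (CoalgebraStruct.comul (R := K) y) =
      CoalgebraStruct.comul (R := K) y := Coalgebra.comm_comul (R := K) y
  have h2 : TensorProduct.comm K A A (CoalgebraStruct.comul (R := K) y - y ⊗ₜ[K] (1 : A) -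
      (1 : A) ⊗ₜ[K] y) = CoalgebraStruct.comul (R := K) y - y ⊗ₜ[K] (1 : A) -
      (1 : A) ⊗ₜ[K] y := by
    rw [map_sub (TensorProduct.comm K A A), map_sub (TensorProduct.comm K A A), h1,
      TensorProduct.comm_tmul, TensorProduct.comm_tmul]
    abel
  rw [lslice_comm, h2] at h
  exact h

end Groth.Agent.Sga7.H740.GaCoc
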