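import Mathlib.FieldTheory.IsAlgClosed.Basic
import Mathlib.LinearAlgebra.FiniteDimensional.Basic
import Mathlib.Algebra.Polynomial.Eval.Degree
import Mathlib.Algebra.CharP.Lemmas
import Mathlib.Algebra.Polynomial.RingDivision

/-!
# Semilinear endomorphisms over an algebraically closed field have an eigenvector

`exists_eigen`: a `p`-semilinear endomorphism of a nonzero finite-dimensional vector space over an
algebraically closed field kills or fixes some nonzero vector.
-/

set_option autoImplicit false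

universe u v

open Polynomial

namespace Groth.Agent.Sga7.H740.SemiFix

variable {K : Type u} [Field K]

/-- auxiliary polynomials -/
noncomputable def Q (p : ℕ) (a : ℕ → K) : ℕ → K[X]
  | 0 => C (a 0)
  | n + 1 => X ^ (p * p - p) * Q p a n ^ p + C (a (n + 1))

lemma Q_eq_zero {p : ℕ} (hp : 2 ≤ p) (a : ℕ → K) (n : ℕ) (h : Q p a n = 0) :
    ∀ i ≤ n, a i = 0 := by
  have hpp : p * p - p ≠ 0 := by
    have : 2 * p ≤ p * p := Nat.mul_le_mul_right _ hp
    omega
  induction n with
  | zero =>
    intro i hi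
    obtain rfl : i = 0 := by omega
    simpa [Q] using h
  | succ n ih =>
    have h1 : a (n + 1) = 0 := by
      have := congrArg (fun q => Polynomial.eval 0 q) h
      simpa [Q, hpp] using this
    have h2 : Q p a n = 0 := by
      rw [Q, h1, C_0, add_zero] at h
      rcases mul_eq_zero.1 h with h3 | h3
      · exact absurd h3 (pow_ne_zero _ X_ne_zero)
      · exact pow_eq_zero_iff (by omega) |>.1 h3
    intro i hi
    rcases Nat.lt_or_ge i (n + 1) with h3 | h3
    · exact ih h2 i (by omega)
    · obtain rfl : i = n + 1 := by omega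
      exact h1

lemma exists_root [IsAlgClosed K] {p : ℕ} (hp : 2 ≤ p) (a : ℕ → K) (n : ℕ)
    (h : ∃ i ≤ n, a i ≠ 0) :
    ∃ (x : ℕ → K), x 0 = a 0 * x n ^ p ∧ (∀ i, x (i + 1) = x i ^ p + a (i + 1) * x n ^ p) ∧
      x n ≠ 0 := by
  have hQ : Q p a n ≠ 0 := by
    intro h0
    obtain ⟨i, hi, hai⟩ := h
    exact hai (Q_eq_zero hp a n h0 i hi)
  obtain ⟨s, hs⟩ := IsAlgClosed.exists_root (X ^ (p - 1) * Q p a n - C 1) (by
    rw [degree_sub_C]
    · rw [degree_mul, degree_X_pow, degree_eq_natDegree hQ, ← Nat.cast_add]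
      exact_mod_cast (by omega : p - 1 + (Q p a n).natDegree ≠ 0)
    · rw [degree_mul, degree_X_pow, degree_eq_natDegree hQ, ← Nat.cast_add]
      exact_mod_cast (by omega : 0 < p - 1 + (Q p a n).natDegree))
  have h1 : s ^ (p - 1) * (Q p a n).eval s = 1 := by
    have h2 : s ^ (p - 1) * (Q p a n).eval s - 1 = 0 := by simpa [IsRoot.def] using hs
    linear_combination h2
  have h2 : s ^ p * (Q p a n).eval s = s := by
    obtain ⟨q, rfl⟩ : ∃ q, p = q + 1 := ⟨p - 1, by omega⟩
    rw [Nat.add_sub_cancel] at h1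
    rw [pow_succ]
    linear_combination s * h1
  have hs0 : s ≠ 0 := by
    rintro rfl
    rw [zero_pow (by omega), zero_mul] at h1
    exact zero_ne_one h1
  refine ⟨fun i => s ^ p * (Q p a i).eval s, ?_, ?_, ?_⟩
  · beta_reduce
    rw [h2, Q, eval_C]
    ring
  · intro i
    beta_reduce
    rw [h2, Q, eval_add, eval_mul, eval_pow, eval_pow, eval_X, eval_C]
    have h3 : s ^ p * s ^ (p * p - p) = (s ^ p) ^ p := by
      rw [← pow_add, ← pow_mul]
      congr 1
      have : p ≤ p * p := Nat.le_mul_self p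
      omega
    rw [mul_pow, ← h3]
    ring
  · beta_reduce
    rw [h2]
    exact hs0

theorem exists_eigen [IsAlgClosed K] {V : Type v} [AddCommGroup V] [Module K V]
    [FiniteDimensional K V] [Nontrivial V] {p : ℕ} (hp : 2 ≤ p) (φ : V →+ V)
    (hφ : ∀ (c : K) (v : V), φ (c • v) = c ^ p • φ v) :
    ∃ v : V, v ≠ 0 ∧ (φ v = 0 ∨ φ v = v) := by
  classical
  by_cases hinj : Function.Injective φ
  swap
  · rw [injective_iff_map_eq_zero] at hinj
    push Not at hinj
    obtain ⟨v, hv, hv0⟩ := hinj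
    exact ⟨v, hv0, Or.inl hv⟩
  obtain ⟨c, hc⟩ := exists_ne (0 : V)
  let S : ℕ → Submodule K V := fun n => Submodule.span K ((fun i => φ^[i] c) '' (Set.Iio n))
  have hSmono : Monotone S := fun m n hmn => Submodule.span_mono (Set.image_mono (Set.Iio_subset_Iio hmn))
  have hex : ∃ n, φ^[n] c ∈ S n := by
    by_contra hcon
    push Not at hcon
    have h1 : StrictMono S := by
      apply strictMono_nat_of_lt_succ
      intro n
      refine lt_of_le_of_ne (hSmono (Nat.le_succ n)) fun h => hcon n ?_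
      rw [h]
      exact Submodule.subset_span ⟨n, Set.mem_Iio.2 (Nat.lt_succ_self n), rfl⟩
    exact not_strictMono_of_wellFoundedGT S h1
  let N := Nat.find hex
  have hN : φ^[N] c ∈ S N := Nat.find_spec hex
  have hN0 : N ≠ 0 := by
    intro h0
    rw [h0] at hN
    simp [S] at hN
    exact hc hN
  obtain ⟨M, hM⟩ : ∃ M, N = M + 1 := ⟨N - 1, by omega⟩
  have hmin : φ^[M] c ∉ S M := Nat.find_min hex (by change M < N; omega)
  rw [hM] at hN
  have hrep : ∀ (n : ℕ) (w : V), w ∈ S n → ∃ a : ℕ → K, w = ∑ i ∈ Finset.range n, a i • φ^[i] c := by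
    intro n w hw
    induction hw using Submodule.span_induction with
    | mem x hx =>
      obtain ⟨i, hi, rfl⟩ := hx
      refine ⟨fun j => if j = i then 1 else 0, ?_⟩
      simp only [ite_smul, one_smul, zero_smul, Finset.sum_ite_eq', Finset.mem_range]
      rw [if_pos (Set.mem_Iio.1 hi)]
    | zero => exact ⟨0, by simp⟩
    | add x y _ _ hx hy =>
      obtain ⟨a, ha⟩ := hx
      obtain ⟨b, hb⟩ := hy
      exact ⟨a + b, by simp [ha, hb, add_smul, Finset.sum_add_distrib]⟩
    | smul r x _ hx =>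
      obtain ⟨a, ha⟩ := hx
      exact ⟨r • a, by simp [ha, Finset.smul_sum, smul_smul]⟩
  obtain ⟨a, ha⟩ := hrep _ _ hN
  have hcn : ∀ n, φ^[n] c ≠ 0 := by
    intro n
    induction n with
    | zero => exact hc
    | succ n ih =>
      rw [Function.iterate_succ_apply']
      intro h
      exact ih (hinj (h.trans (map_zero φ).symm))
  have hne : ∃ i ≤ M, a i ≠ 0 := by
    by_contra hcon
    push Not at hcon
    apply hcn (M + 1)
    rw [ha]
    refine Finset.sum_eq_zero fun i hi => ?_
    rw [hcon i (by rw [Finset.mem_range] at hi; omega), zero_smul]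
  obtain ⟨x, hx0, hx1, hxM⟩ := exists_root hp a M hne
  refine ⟨∑ i ∈ Finset.range (M + 1), x i • φ^[i] c, ?_, Or.inr ?_⟩
  · intro h0
    rw [Finset.sum_range_succ] at h0
    apply hmin
    have h1 : φ^[M] c = (-(x M)⁻¹) • ∑ i ∈ Finset.range M, x i • φ^[i] c := by
      have h2 : ∑ i ∈ Finset.range M, x i • φ^[i] c = - (x M • φ^[M] c) := eq_neg_of_add_eq_zero_left h0
      rw [h2, smul_neg, neg_smul, neg_neg, smul_smul, inv_mul_cancel₀ hxM, one_smul]
    rw [h1]
    refine Submodule.smul_mem _ _ (Submodule.sum_mem _ fun i hi => Submodule.smul_mem _ _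
      (Submodule.subset_span ⟨i, Set.mem_Iio.2 (Finset.mem_range.1 hi), rfl⟩))
  · have h1 : φ (∑ i ∈ Finset.range (M + 1), x i • φ^[i] c) =
        ∑ i ∈ Finset.range (M + 1), (x i) ^ p • φ^[i + 1] c := by
      rw [map_sum]
      refine Finset.sum_congr rfl fun i _ => ?_
      rw [hφ, Function.iterate_succ_apply']
    rw [h1, Finset.sum_range_succ, ha, Finset.sum_range_succ' (fun i => x i • φ^[i] c),
      Finset.sum_range_succ' (fun i => a i • φ^[i] c), smul_add, hx0]
    have h2 : ∑ i ∈ Finset.range M, x (i + 1) • φ^[i + 1] c =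
        ∑ i ∈ Finset.range M, (x i) ^ p • φ^[i + 1] c +
          x M ^ p • ∑ i ∈ Finset.range M, a (i + 1) • φ^[i + 1] c := by
      rw [Finset.smul_sum, ← Finset.sum_add_distrib]
      refine Finset.sum_congr rfl fun i _ => ?_
      rw [hx1, add_smul, smul_smul, mul_comm (a (i + 1))]
    rw [h2, smul_smul, mul_comm (a 0)]
    abel

end Groth.Agent.Sga7.H740.SemiFix
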