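import Groth.Agent.Sga3B.GaPts
import Groth.Agent.Sga3B.AffPts
import Mathlib.AlgebraicGeometry.AlgClosed.Basic
import Mathlib.AlgebraicGeometry.Morphisms.QuasiFinite
import Mathlib.FieldTheory.IsAlgClosed.Basic

/-!
# Multiplication by `m` kills the additive group if `m = 0`

* `ga_pow_eq_one`: if `m = 0` in `K` then `x ^ m = 1` for all points `x` of `𝔾_a` over `K`;
* `not_locallyQuasiFinite_of_ga`: if `m = 0` in the algebraically closed field `K` and there is a
  monomorphic homomorphism `𝔾_a ⟶ H`, then the `m`-th power morphism of `H` is not quasi-finite.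
-/

set_option autoImplicit false

universe u

open CategoryTheory Limits MonoidalCategory CartesianMonoidalCategory MonObj GrpObj AlgebraicGeometry

namespace Groth.Agent.Sga7.H740.GaPow

open Groth.Agent.Sga3B.GaPts Groth.Agent.Sga3B.AffPts

theorem gaFn_pow {S : Scheme.{u}} {T : Over S} (x : T ⟶ Red.Ga S) (m : ℕ) :
    Red.gaFn (x ^ m) = m • Red.gaFn x := by
  induction m with
  | zero => rw [pow_zero, gaFn_one, zero_smul]
  | succ m ih => rw [pow_succ, gaFn_mul, ih, succ_nsmul]

theorem ga_pow_eq_one {R : Type u} [CommRing R] {T : Over (Spec (CommRingCat.of R))} (m : ℕ)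
    (hm : (m : R) = 0) (x : T ⟶ Red.Ga (Spec (CommRingCat.of R))) : x ^ m = 1 := by
  apply gaFn_injective
  rw [gaFn_pow, gaFn_one]
  have h1 : (m : Fn T) = 0 := by
    rw [← map_natCast (algebraMap R (Fn T)), hm, map_zero]
  let a : Fn T := Red.gaFn x
  have h2 : (m : Fn T) * a = 0 := by rw [h1, zero_mul]
  exact (nsmul_eq_mul m a).trans h2

variable {K : Type u} [Field K] [IsAlgClosed K] {H : Over (Spec (CommRingCat.of K))}

/-- The `K`-points of `𝔾_a` as points of `H`. -/
theorem infinite_preimage [GrpObj H] [LocallyOfFiniteType H.hom] (m : ℕ) (hm : (m : K) = 0)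
    (j : Red.Ga (Spec (CommRingCat.of K)) ⟶ H) [IsMonHom j] [Mono j] :
    ((𝟙 H ^ m : H ⟶ H).left ⁻¹'
      {(η[H] : 𝟙_ (Over (Spec (CommRingCat.of K))) ⟶ H).left (IsLocalRing.closedPoint K)}).Infinite := by
  let P : K → (𝟙_ (Over (Spec (CommRingCat.of K))) ⟶ Red.Ga (Spec (CommRingCat.of K))) := fun c =>
    gaPt _ ((Scheme.ΓSpecIso (CommRingCat.of K)).inv c)
  have hP : Function.Injective P := by
    intro c c' h
    have h1 := congrArg Red.gaFn h
    rw [gaFn_gaPt, gaFn_gaPt] at h1
    exact (ConcreteCategory.bijective_of_isIso (Scheme.ΓSpecIso (CommRingCat.of K)).inv).1 h1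
  let F : K → H.left := fun c => (P c ≫ j).left (IsLocalRing.closedPoint K)
  have hF : Function.Injective F := by
    intro c c' h
    apply hP
    rw [← cancel_mono j]
    ext1
    exact ext_of_apply_closedPoint_eq H.hom (Over.w (P c ≫ j)) (Over.w (P c' ≫ j)) h
  have hinf : Infinite K := IsAlgClosed.instInfinite
  refine (Set.infinite_range_of_injective hF).mono ?_
  rintro _ ⟨c, rfl⟩
  have h1 : (P c ≫ j) ≫ (𝟙 H ^ m : H ⟶ H) = η[H] := by
    have h0 : (P c ≫ j) ^ m = ((P c) ^ m) ≫ j := (MonObj.pow_comp (P c) m j).symm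
    rw [MonObj.comp_pow, Category.comp_id, h0, ga_pow_eq_one m hm, MonObj.one_comp,
      MonObj.one_eq_one]
  have h2 := congr(($h1).left (IsLocalRing.closedPoint K))
  exact h2

theorem not_locallyQuasiFinite_of_ga [GrpObj H] [LocallyOfFiniteType H.hom] (m : ℕ)
    (hm : (m : K) = 0) (j : Red.Ga (Spec (CommRingCat.of K)) ⟶ H) [IsMonHom j] [Mono j]
    [QuasiCompact (𝟙 H ^ m : H ⟶ H).left] : ¬ LocallyQuasiFinite (𝟙 H ^ m : H ⟶ H).left := by
  intro h
  exact infinite_preimage m hm j ((𝟙 H ^ m : H ⟶ H).left.finite_preimage_singleton _)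

end Groth.Agent.Sga7.H740.GaPow
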