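import Groth.Agent.Books.UnipExt2
import Mathlib.RingTheory.Finiteness.Descent
import Mathlib.LinearAlgebra.FreeModule.PID
import Mathlib.RingTheory.Flat.TorsionFree
import Mathlib.RingTheory.Flat.Stability
import Mathlib.RingTheory.PrincipalIdealDomain
import Mathlib.Algebra.Module.Projective

/-!
# A commutative Hopf algebra over the subalgebra generated by a primitive element

`A` a commutative Hopf algebra over a field `K`, a domain, `T` a primitive element such that
`A / T A` is finite-dimensional.

* `finite_adjoin`: `A` is finite over `B = K[T]`;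
* `exists_retraction`: `B → A` has a `B`-linear retraction;
* `exists_integral`: a linear map `N : A → A` with `N (T a) = 0`, `N 1 = 1` and
  `(id ⊗ π) Δ N = (N ⊗ π) Δ`, `π : A → A / T A` (a total integral).
-/

set_option autoImplicit false

universe u v

open TensorProduct HopfRep WithConv

namespace Groth.Agent.Sga7.H740.GaRetr

open Groth.Agent.Books.UnipExt Groth.Agent.Books.ComodBasic Groth.Agent.Books.CoidealFlat

variable {K : Type u} [Field K] {A : Type v} [CommRing A] [HopfAlgebra K A] {T : A}

/-- `th` kills the ideal generated by a primitive element. -/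
lemma th_mul (hT : IsPrim K T) (y : A) :
    (th (k := K) (Algebra.adjoin K {T})).ofConv (T * y) = 0 := by
  have h := gam_prim hT (Algebra.adjoin K {T}) (Algebra.self_mem_adjoin_singleton K T) 1 y
  rw [gam_tmul, map_one, one_mul] at h
  exact h

theorem finite_adjoin (hT : IsPrim K T) (hfin : Module.Finite K (A ⧸ Ideal.span {T})) :
    Module.Finite (Algebra.adjoin K {T}) A := by
  set B := Algebra.adjoin K {T} with hB
  have : Module.FaithfullyFlat B A := hT.faithfullyFlat
  suffices h : Module.Finite A (A ⊗[B] A) from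
    Module.Finite.of_finite_tensorProduct_of_faithfullyFlat (R := B) A
  obtain ⟨s, hs⟩ := hfin.fg_top
  choose l hl using (Ideal.Quotient.mk_surjective (I := Ideal.span {T}))
  let W : Submodule A (A ⊗[B] A) :=
    Submodule.span A ((fun c => (th (k := K) B).ofConv (l c)) '' (s : Set (A ⧸ Ideal.span {T})))
  have hth : ∀ y : A, (th (k := K) B).ofConv y ∈ W := by
    intro y
    have h1 : ∀ c : A ⧸ Ideal.span {T}, c ∈ Submodule.span K (s : Set (A ⧸ Ideal.span {T})) →
        ∀ y : A, Ideal.Quotient.mk _ y = c → (th (k := K) B).ofConv y ∈ W := by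
      have key : ∀ y y' : A, Ideal.Quotient.mk (Ideal.span {T}) y = Ideal.Quotient.mk _ y' →
          (th (k := K) B).ofConv y = (th (k := K) B).ofConv y' := by
        intro y y' h
        rw [Ideal.Quotient.eq, Ideal.mem_span_singleton'] at h
        obtain ⟨a, ha⟩ := h
        rw [← sub_eq_zero, ← map_sub, ← ha, mul_comm, th_mul hT]
      intro c hc
      induction hc using Submodule.span_induction with
      | mem x hx =>
        intro y hy
        rw [key y (l x) (by rw [hy, hl])]
        exact Submodule.subset_span ⟨x, hx, rfl⟩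
      | zero =>
        intro y hy
        rw [key y 0 (by rw [hy, map_zero]), map_zero]
        exact Submodule.zero_mem _
      | add x x' _ _ hx hx' =>
        intro y hy
        rw [key y (l x + l x') (by rw [hy, map_add, hl, hl]), map_add]
        exact Submodule.add_mem _ (hx _ (hl x)) (hx' _ (hl x'))
      | smul r x _ hx =>
        intro y hy
        have h2 : Ideal.Quotient.mk (Ideal.span {T}) (r • l x) = r • x := by
          conv_rhs => rw [← hl x]
          rfl
        rw [key y (r • l x) (by rw [hy, h2]), map_smul]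
        have h3 := Submodule.smul_mem W (algebraMap K A r) (hx _ (hl x))
        rwa [algebraMap_smul] at h3
    exact h1 _ (hs ▸ Submodule.mem_top) y rfl
  have hiR : ∀ y : A, (iR (k := K) B) y ∈ W := by
    intro y
    rw [← gam_comul]
    generalize (CoalgebraStruct.comul (R := K) y : A ⊗[K] A) = z
    induction z with
    | zero => rw [map_zero]; exact Submodule.zero_mem _
    | add x y hx hy => rw [map_add]; exact Submodule.add_mem _ hx hy
    | tmul x y =>
      rw [gam_tmul, iL_apply]
      have h2 : (x ⊗ₜ[B] (1 : A)) * (th (k := K) B).ofConv y = x • (th (k := K) B).ofConv y := by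
        generalize (th (k := K) B).ofConv y = w
        induction w with
        | zero => rw [mul_zero, smul_zero]
        | add a b ha hb => rw [mul_add, smul_add, ha, hb]
        | tmul a b =>
          rw [Algebra.TensorProduct.tmul_mul_tmul, one_mul]
          rfl
      rw [h2]
      exact Submodule.smul_mem _ _ (hth y)
  have htop : W = ⊤ := by
    rw [eq_top_iff]
    rintro z -
    induction z with
    | zero => exact Submodule.zero_mem _
    | add x y hx hy => exact Submodule.add_mem _ hx hy
    | tmul x y =>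
      have h2 : x ⊗ₜ[B] y = x • (iR (k := K) B) y := by
        rw [iR_apply, TensorProduct.smul_tmul', smul_eq_mul, mul_one]
      rw [h2]
      exact Submodule.smul_mem _ _ (hiR y)
  refine ⟨?_⟩
  rw [← htop]
  exact Submodule.fg_span (s.finite_toSet.image _)

lemma isPrincipal_adjoin : IsPrincipalIdealRing (Algebra.adjoin K {T}) := by
  have h : Function.Surjective ((Polynomial.aeval T : Polynomial K →ₐ[K] A).rangeRestrict) :=
    AlgHom.rangeRestrict_surjective _
  have h2 : IsPrincipalIdealRing (Polynomial.aeval T : Polynomial K →ₐ[K] A).range :=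
    IsPrincipalIdealRing.of_surjective
      ((Polynomial.aeval T : Polynomial K →ₐ[K] A).rangeRestrict : Polynomial K →+* _) h
  rw [Algebra.adjoin_singleton_eq_range_aeval]
  exact h2

lemma mem_range_of_smul_mem {R : Type*} {S : Type*} [CommRing R] [IsDomain R] [CommRing S]
    [Algebra R S] [Module.FaithfullyFlat R S] (b : R) (hb : b ≠ 0) (a : S)
    (h : b • a ∈ LinearMap.range (Algebra.linearMap R S)) :
    a ∈ LinearMap.range (Algebra.linearMap R S) := by
  obtain ⟨b', hb'⟩ := h
  refine mem_range_of_tmul_eq a ?_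
  have h1 : b • ((1 : S) ⊗ₜ[R] a - a ⊗ₜ[R] 1) = 0 := by
    rw [smul_sub, ← TensorProduct.tmul_smul, TensorProduct.smul_tmul' b a, ← hb',
      Algebra.linearMap_apply, Algebra.algebraMap_eq_smul_one, TensorProduct.tmul_smul,
      TensorProduct.smul_tmul', sub_self]
  rcases (smul_eq_zero (R := R) (M := S ⊗[R] S)).1 h1 with h2 | h2
  · exact absurd h2 hb
  · exact sub_eq_zero.1 h2

theorem exists_retraction_of_pid {R : Type*} {S : Type*} [CommRing R] [IsDomain R]
    [IsPrincipalIdealRing R] [CommRing S] [Nontrivial S]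
    [Algebra R S] [Module.FaithfullyFlat R S] [Module.Finite R S] :
    ∃ r : S →ₗ[R] R, r 1 = 1 := by
  let D : Submodule R S := LinearMap.range (Algebra.linearMap R S)
  have htf : Module.IsTorsionFree R (S ⧸ D) := by
    rw [Module.isTorsionFree_iff_smul_eq_zero]
    intro b x hbx
    by_contra hcon
    push Not at hcon
    obtain ⟨hb, hx⟩ := hcon
    obtain ⟨a, rfl⟩ := D.mkQ_surjective x
    apply hx
    rw [← map_smul, ← LinearMap.mem_ker, Submodule.ker_mkQ] at hbx
    rw [← LinearMap.mem_ker, Submodule.ker_mkQ]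
    exact mem_range_of_smul_mem b hb a hbx
  obtain ⟨s, hs⟩ := Module.projective_lifting_property D.mkQ (LinearMap.id : (S ⧸ D) →ₗ[R] (S ⧸ D))
    D.mkQ_surjective
  have hmem : ∀ a : S, (LinearMap.id - s ∘ₗ D.mkQ : S →ₗ[R] S) a ∈ D := by
    intro a
    have h0 : D.mkQ ((LinearMap.id - s ∘ₗ D.mkQ : S →ₗ[R] S) a) = 0 := by
      have := LinearMap.congr_fun hs (D.mkQ a)
      rw [LinearMap.comp_apply, LinearMap.id_apply] at this
      rw [LinearMap.sub_apply, map_sub, LinearMap.comp_apply, this, LinearMap.id_apply, sub_self]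
    rwa [← LinearMap.mem_ker, Submodule.ker_mkQ] at h0
  have hinj : Function.Injective (Algebra.linearMap R S) :=
    FaithfulSMul.algebraMap_injective R S
  let e : R ≃ₗ[R] D := LinearEquiv.ofInjective (Algebra.linearMap R S) hinj
  refine ⟨e.symm.toLinearMap ∘ₗ
    (LinearMap.codRestrict D (LinearMap.id - s ∘ₗ D.mkQ) hmem), ?_⟩
  rw [LinearMap.comp_apply]
  have h1 : (LinearMap.codRestrict D (LinearMap.id - s ∘ₗ D.mkQ) hmem) 1 = e 1 := by
    apply Subtype.ext
    change (1 : S) - s (D.mkQ 1) = algebraMap R S 1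
    have h2 : D.mkQ (1 : S) = 0 := by
      rw [← LinearMap.mem_ker, Submodule.ker_mkQ]
      exact ⟨1, (map_one (algebraMap R S) :)⟩
    rw [h2, map_zero, sub_zero]
    exact (map_one (algebraMap R S)).symm
  rw [h1]
  exact e.symm_apply_apply 1

theorem exists_retraction [IsDomain A] (hT : IsPrim K T)
    (hfin : Module.Finite K (A ⧸ Ideal.span {T})) :
    ∃ r : A →ₗ[Algebra.adjoin K {T}] Algebra.adjoin K {T}, r 1 = 1 := by
  have : Module.FaithfullyFlat (Algebra.adjoin K {T}) A := hT.faithfullyFlat
  have : Module.Finite (Algebra.adjoin K {T}) A := finite_adjoin hT hfin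
  have : IsPrincipalIdealRing (Algebra.adjoin K {T}) := isPrincipal_adjoin
  exact exists_retraction_of_pid

/-- `(id ⊗ π) Δ`, the restriction of the regular comodule along the quotient map. -/
noncomputable def rho (T : A) : A →ₐ[K] A ⊗[K] (A ⧸ Ideal.span {T}) :=
  (Algebra.TensorProduct.map (AlgHom.id K A) (Ideal.Quotient.mkₐ K (Ideal.span {T}))).comp
    (Bialgebra.comulAlgHom K A)

lemma rho_apply (T a : A) : rho (K := K) T a =
    Algebra.TensorProduct.map (AlgHom.id K A) (Ideal.Quotient.mkₐ K (Ideal.span {T}))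
      (CoalgebraStruct.comul (R := K) a) := rfl

lemma rho_of_mem (hT : IsPrim K T) {b : A} (hb : b ∈ Algebra.adjoin K {T}) :
    rho (K := K) T b = b ⊗ₜ[K] 1 := by
  have h1 : Algebra.adjoin K {T} ≤ AlgHom.equalizer (rho (K := K) T)
      (Algebra.TensorProduct.includeLeft : A →ₐ[K] A ⊗[K] (A ⧸ Ideal.span {T})) := by
    rw [Algebra.adjoin_le_iff, Set.singleton_subset_iff]
    change rho (K := K) T T = T ⊗ₜ[K] 1
    rw [rho_apply, hT, map_add, Algebra.TensorProduct.map_tmul, Algebra.TensorProduct.map_tmul,
      map_one]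
    have h2 : Ideal.Quotient.mkₐ K (Ideal.span {T}) T = 0 :=
      Ideal.Quotient.eq_zero_iff_mem.2 (Ideal.mem_span_singleton_self T)
    rw [h2, TensorProduct.tmul_zero, add_zero]
    rfl
  exact h1 hb

/-- The total integral attached to a `B`-linear map `A → B`, as a linear map `A → A`. -/
noncomputable def integ (r : A →ₗ[Algebra.adjoin K {T}] Algebra.adjoin K {T}) : A →ₗ[K] A :=
  LinearMap.mul' K A ∘ₗ TensorProduct.map
    (((Algebra.adjoin K {T}).val.toLinearMap ∘ₗ r.restrictScalars K) ∘ₗ HopfAlgebra.antipode K)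
    LinearMap.id ∘ₗ CoalgebraStruct.comul (R := K)

lemma integ_one (r : A →ₗ[Algebra.adjoin K {T}] Algebra.adjoin K {T}) (hr : r 1 = 1) :
    integ r 1 = 1 := by
  rw [integ, LinearMap.comp_apply, LinearMap.comp_apply, Bialgebra.comul_one,
    Algebra.TensorProduct.one_def, TensorProduct.map_tmul, LinearMap.mul'_apply,
    LinearMap.comp_apply, HopfAlgebra.antipode_one, LinearMap.id_apply, mul_one]
  change ((r 1 : Algebra.adjoin K {T}) : A) = 1
  rw [hr]
  rfl

lemma integ_mul (hT : IsPrim K T) (r : A →ₗ[Algebra.adjoin K {T}] Algebra.adjoin K {T}) (a : A) :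
    integ r (T * a) = 0 := by
  have hrT : ∀ x : A, ((r (T * x) : Algebra.adjoin K {T}) : A) = T * (r x : A) := by
    intro x
    have h1 : T * x = (⟨T, Algebra.self_mem_adjoin_singleton K T⟩ : Algebra.adjoin K {T}) • x := rfl
    rw [h1, map_smul]
    rfl
  have h1 : CoalgebraStruct.comul (R := K) (T * a) =
      (T ⊗ₜ[K] (1 : A) + (1 : A) ⊗ₜ[K] T) * CoalgebraStruct.comul (R := K) a := by
    rw [← hT]
    exact map_mul (Bialgebra.comulAlgHom K A) T a
  rw [integ, LinearMap.comp_apply, LinearMap.comp_apply, h1]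
  generalize (CoalgebraStruct.comul (R := K) a : A ⊗[K] A) = z
  induction z with
  | zero => simp
  | add x y hx hy => rw [mul_add, map_add, map_add, hx, hy, add_zero]
  | tmul x y =>
    rw [add_mul, Algebra.TensorProduct.tmul_mul_tmul, Algebra.TensorProduct.tmul_mul_tmul,
      one_mul, one_mul, map_add, map_add, TensorProduct.map_tmul, TensorProduct.map_tmul,
      LinearMap.mul'_apply, LinearMap.mul'_apply, LinearMap.id_apply, LinearMap.id_apply]
    have h2 : HopfAlgebra.antipode K (T * x) = -(T * HopfAlgebra.antipode K x) := by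
      have h3 := map_mul (HopfAlgebra.antipodeAlgHom K A) T x
      change HopfAlgebra.antipode K (T * x) = HopfAlgebra.antipode K T * HopfAlgebra.antipode K x at h3
      rw [h3, hT.antipode, neg_mul]
    rw [LinearMap.comp_apply, LinearMap.comp_apply, h2, map_neg, LinearMap.comp_apply,
      LinearMap.comp_apply]
    change -((r (T * _) : Algebra.adjoin K {T}) : A) * y + ((r _ : Algebra.adjoin K {T}) : A) * (T * y) = 0
    rw [hrT]
    ring

/-- `(id ⊗ π) Δ (N a) = (N ⊗ π) Δ a`. -/
lemma rho_integ (hT : IsPrim K T) (r : A →ₗ[Algebra.adjoin K {T}] Algebra.adjoin K {T}) (a : A) :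
    rho (K := K) T (integ r a) =
      TensorProduct.map (integ r) (Ideal.Quotient.mkₐ K (Ideal.span {T})).toLinearMap
        (CoalgebraStruct.comul (R := K) a) := by
  set f : A →ₗ[K] A := ((Algebra.adjoin K {T}).val.toLinearMap ∘ₗ r.restrictScalars K) ∘ₗ
    HopfAlgebra.antipode K with hf
  have hfmem : ∀ x, f x ∈ Algebra.adjoin K {T} := fun x => (r (HopfAlgebra.antipode K x)).2
  let H : A ⊗[K] (A ⊗[K] A) →ₗ[K] A ⊗[K] (A ⧸ Ideal.span {T}) :=
    (TensorProduct.map (LinearMap.mul' K A ∘ₗ TensorProduct.map f LinearMap.id)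
      (Ideal.Quotient.mkₐ K (Ideal.span {T})).toLinearMap) ∘ₗ
      (TensorProduct.assoc K A A A).symm.toLinearMap
  have hHt : ∀ x y z : A, H (x ⊗ₜ (y ⊗ₜ z)) =
      (f x * y) ⊗ₜ[K] (Ideal.Quotient.mk (Ideal.span {T}) z) := fun x y z => rfl
  have h1 : ∀ z : A ⊗[K] A, rho (K := K) T
      (LinearMap.mul' K A (TensorProduct.map f LinearMap.id z)) =
      H ((CoalgebraStruct.comul (R := K) (A := A)).lTensor A z) := by
    intro z
    induction z with
    | zero => simp
    | add x y hx hy => simp only [map_add, hx, hy]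
    | tmul x y =>
      rw [TensorProduct.map_tmul, LinearMap.mul'_apply, LinearMap.id_apply, map_mul,
        rho_of_mem hT (hfmem x), LinearMap.lTensor_tmul, rho_apply]
      generalize (CoalgebraStruct.comul (R := K) y : A ⊗[K] A) = w
      induction w with
      | zero => simp
      | add u v hu hv => simp only [map_add, mul_add, TensorProduct.tmul_add, hu, hv]
      | tmul u v =>
        rw [hHt, Algebra.TensorProduct.map_tmul, Algebra.TensorProduct.tmul_mul_tmul, one_mul]
        rfl
  have h2 : ∀ z : A ⊗[K] A,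
      H ((TensorProduct.assoc K A A A) ((CoalgebraStruct.comul (R := K) (A := A)).rTensor A z)) =
      TensorProduct.map (integ r) (Ideal.Quotient.mkₐ K (Ideal.span {T})).toLinearMap z := by
    intro z
    induction z with
    | zero => simp
    | add x y hx hy => simp only [map_add, hx, hy]
    | tmul x y =>
      rw [LinearMap.rTensor_tmul, TensorProduct.map_tmul]
      have h3 : integ r x = LinearMap.mul' K A (TensorProduct.map f LinearMap.id
        (CoalgebraStruct.comul (R := K) x)) := rfl
      rw [h3]
      generalize (CoalgebraStruct.comul (R := K) x : A ⊗[K] A) = w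
      induction w with
      | zero => simp
      | add u v hu hv => simp only [map_add, TensorProduct.add_tmul, hu, hv]
      | tmul u v => rfl
  have h4 : integ r a = LinearMap.mul' K A (TensorProduct.map f LinearMap.id
    (CoalgebraStruct.comul (R := K) a)) := rfl
  rw [h4, h1, ← h2]
  congr 1
  exact (Coalgebra.coassoc_apply (R := K) a).symm

/-- Extension of a primitive element of the quotient to an additive cocycle. -/
theorem exists_rho_eq [IsDomain A] (hT : IsPrim K T)
    (hfin : Module.Finite K (A ⧸ Ideal.span {T})) [(Ideal.span {T}).IsHopfIdeal K]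
    (c : A ⧸ Ideal.span {T})
    (hc : CoalgebraStruct.comul (R := K) c = c ⊗ₜ[K] (1 : A ⧸ Ideal.span {T}) + 1 ⊗ₜ[K] c) :
    ∃ y : A, rho (K := K) T y = y ⊗ₜ[K] 1 + 1 ⊗ₜ[K] c := by
  obtain ⟨r, hr⟩ := exists_retraction hT hfin
  obtain ⟨b, rfl⟩ := Ideal.Quotient.mk_surjective c
  let π : A →ₗ[K] (A ⧸ Ideal.span {T}) := (Ideal.Quotient.mkₐ K (Ideal.span {T})).toLinearMap
  have hπ : Function.Surjective π := Ideal.Quotient.mk_surjective
  obtain ⟨s, hs⟩ := LinearMap.exists_rightInverse_of_surjective π (LinearMap.range_eq_top.2 hπ)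
  have hN : ∀ x, integ r (s (π x)) = integ r x := by
    intro x
    have h1 : π (s (π x) - x) = 0 := by
      rw [map_sub]
      have := LinearMap.congr_fun hs (π x)
      rw [LinearMap.comp_apply, LinearMap.id_apply] at this
      rw [this, sub_self]
    obtain ⟨d, hd⟩ := Ideal.mem_span_singleton'.1 (Ideal.Quotient.eq_zero_iff_mem.1 h1)
    rw [← sub_eq_zero, ← map_sub, ← hd, mul_comm, integ_mul hT]
  refine ⟨integ r b, ?_⟩
  rw [rho_integ hT]
  have h1 : TensorProduct.map (integ r) π (CoalgebraStruct.comul (R := K) b) =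
      (integ r ∘ₗ s).rTensor _ (CoalgebraStruct.comul (R := K) (π b)) := by
    have h2 : CoalgebraStruct.comul (R := K) (π b) =
      TensorProduct.map π π (CoalgebraStruct.comul (R := K) b) := rfl
    rw [h2]
    generalize (CoalgebraStruct.comul (R := K) b : A ⊗[K] A) = w
    induction w with
    | zero => simp
    | add u v hu hv => simp only [map_add, hu, hv]
    | tmul u v =>
      rw [TensorProduct.map_tmul, TensorProduct.map_tmul, LinearMap.rTensor_tmul,
        LinearMap.comp_apply, hN]
  refine h1.trans ?_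
  have h3 : CoalgebraStruct.comul (R := K) (π b) = π b ⊗ₜ[K] (1 : A ⧸ Ideal.span {T}) + 1 ⊗ₜ[K] π b := hc
  rw [h3, map_add, LinearMap.rTensor_tmul, LinearMap.rTensor_tmul, LinearMap.comp_apply,
    LinearMap.comp_apply, hN]
  have h4 : (1 : A ⧸ Ideal.span {T}) = π 1 := rfl
  conv_lhs => rw [h4, hN, integ_one r hr]
  rfl

end Groth.Agent.Sga7.H740.GaRetr
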